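import Groth.Agent.Lib.CechEdge8.Edge

/-! The comparison maps on sheaves: injectivity in degree one, and acyclic families. -/

set_option autoImplicit false

universe u

open CategoryTheory CategoryTheory.Limits Opposite Abelian

set_option backward.isDefEq.respectTransparency false
set_option backward.isDefEq.respectTransparency.types false

namespace Groth.Agent.CechEdge8

variable {C : Type u} [SmallCategory C] [HasPullbacks C] {J : GrothendieckTopology C} {U : C} {ι : Type u}
  {Y : ι → Over U} {e : ∀ (P : Cᵒᵖ ⥤ AddCommGrpCat.{u}) (p : ℕ), CohCx.cechH P Y p →+ CohSite.HU (CechEdge.shf J P) p U}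

lemma edgeSh_toCech (he : CechEdge.IsEdge J Y e) (F : Sheaf J AddCommGrpCat.{u}) (s : F.obj.obj (op U)) :
    CechEdge.edgeSh e F 0 (CechEdge.toCech Y F.obj s) = CechEdge.sectH0 J U F s := by
  show CechEdge.HUmap _ 0 U (e F.obj 0 _) = _
  rw [he.zero]
  erw [sectH0_natural]
  refine congrArg _ ?_
  exact ConcreteCategory.congr_hom (NatTrans.congr_app
    ((sheafificationAdjunction J AddCommGrpCat.{u}).right_triangle_components F) (op U)) s

lemma edgeSh_zero_bijective (he : CechEdge.IsEdge J Y e) (F : Sheaf J AddCommGrpCat.{u}) :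
    Function.Bijective (CechEdge.edgeSh e F 0) := by
  have h := toCech_bijective_of_isSheaf F.obj Y J F.property he.cover
  refine (Function.Bijective.of_comp_iff (CechEdge.edgeSh e F 0) h).1 ?_
  rw [show (CechEdge.edgeSh e F 0 : _ → _) ∘ CechEdge.toCech Y F.obj = CechEdge.sectH0 J U F from
    funext (edgeSh_toCech he F)]
  exact (CechEdge.sectH0 J U F).bijective

lemma edgeSh_natural (he : CechEdge.IsEdge J Y e) {F G : Sheaf J AddCommGrpCat.{u}} (ψ : F ⟶ G) (p : ℕ)
    (x : CohCx.cechH F.obj Y p) :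
    CechEdge.edgeSh e G p (CechEdge.cechHMap Y ψ.hom p x) = CechEdge.HUmap ψ p U (CechEdge.edgeSh e F p x) := by
  show CechEdge.HUmap _ p U (e G.obj p _) = CechEdge.HUmap ψ p U (CechEdge.HUmap _ p U (e F.obj p x))
  rw [he.natural, HUmap_comp_apply, HUmap_comp_apply]
  exact congrArg (fun t => CechEdge.HUmap t p U (e F.obj p x))
    ((sheafificationAdjunction J AddCommGrpCat.{u}).counit.naturality ψ)

lemma cxf_ext {P Q : Cᵒᵖ ⥤ AddCommGrpCat.{u}} (φ : P ⟶ Q) (n : ℕ)
    (h : ∀ a : Fin (n + 1) → ι, Function.Injective (φ.app (op (∏ᶜ fun k => Y (a k)).left))) :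
    Function.Injective (((CechEdge.cxFunctor Y).map φ).f n) := fun x y hxy => by
  refine SiteCoh.pi_ext fun a => h a ?_
  have := congrArg (fun z => Pi.π (fun a : Fin (n + 1) → ι => Q.obj (op (∏ᶜ (Y ∘ a)).left)) a z) hxy
  have e : ((CechEdge.cxFunctor Y).map φ).f n ≫
      Pi.π (fun a : Fin (n + 1) → ι => Q.obj (op (∏ᶜ (Y ∘ a)).left)) a =
      Pi.π (fun a : Fin (n + 1) → ι => P.obj (op (∏ᶜ (Y ∘ a)).left)) a ≫ φ.app (op (∏ᶜ (Y ∘ a)).left) := by
    simp [cechComplexFunctor, FormalCoproduct.cochainComplexFunctor]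
    exact Limits.Pi.map_π _ a
  exact (ConcreteCategory.congr_hom e x).symm.trans (this.trans (ConcreteCategory.congr_hom e y))

lemma cxf_surj {P Q : Cᵒᵖ ⥤ AddCommGrpCat.{u}} (φ : P ⟶ Q) (n : ℕ)
    (h : ∀ a : Fin (n + 1) → ι, Function.Surjective (φ.app (op (∏ᶜ fun k => Y (a k)).left))) :
    Function.Surjective (((CechEdge.cxFunctor Y).map φ).f n) := fun y => by
  choose t ht using fun a : Fin (n + 1) → ι =>
    h a (Pi.π (fun a : Fin (n + 1) → ι => Q.obj (op (∏ᶜ (Y ∘ a)).left)) a y)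
  obtain ⟨x, hx⟩ := SiteCoh.exists_pi (G := fun a : Fin (n + 1) → ι => P.obj (op (∏ᶜ (Y ∘ a)).left)) t
  refine ⟨x, SiteCoh.pi_ext (G := fun a : Fin (n + 1) → ι => Q.obj (op (∏ᶜ (Y ∘ a)).left)) fun a => ?_⟩
  have e : ((CechEdge.cxFunctor Y).map φ).f n ≫
      Pi.π (fun a : Fin (n + 1) → ι => Q.obj (op (∏ᶜ (Y ∘ a)).left)) a =
      Pi.π (fun a : Fin (n + 1) → ι => P.obj (op (∏ᶜ (Y ∘ a)).left)) a ≫ φ.app (op (∏ᶜ (Y ∘ a)).left) := by
    simp [cechComplexFunctor, FormalCoproduct.cochainComplexFunctor]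
    exact Limits.Pi.map_π _ a
  exact (ConcreteCategory.congr_hom e x).trans ((congrArg _ (hx a)).trans (ht a))

variable (Y)

lemma cechHMap_zero_injective {P Q : Cᵒᵖ ⥤ AddCommGrpCat.{u}} (φ : P ⟶ Q) [Mono φ] :
    Function.Injective (CechEdge.cechHMap Y φ 0) := by
  have : Mono (((CechEdge.cxFunctor Y).map φ).f 0) :=
    (AddCommGrpCat.mono_iff_injective _).2 (cxf_ext φ 0 fun a =>
      (AddCommGrpCat.mono_iff_injective _).1 inferInstance)
  have : Mono (HomologicalComplex.cyclesMap ((CechEdge.cxFunctor Y).map φ) 0) :=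
    mono_of_mono_fac (HomologicalComplex.cyclesMap_i ((CechEdge.cxFunctor Y).map φ) 0)
  have : Mono (HomologicalComplex.homologyMap ((CechEdge.cxFunctor Y).map φ) 0) := by
    have e : HomologicalComplex.homologyMap ((CechEdge.cxFunctor Y).map φ) 0 =
        ((CechEdge.cxFunctor Y).obj P).isoHomologyπ₀.inv ≫ HomologicalComplex.cyclesMap ((CechEdge.cxFunctor Y).map φ) 0 ≫
          ((CechEdge.cxFunctor Y).obj Q).isoHomologyπ₀.hom := by
      rw [← Category.assoc, ← CochainComplex.isoHomologyπ₀_inv_naturality, Category.assoc, Iso.inv_hom_id,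
        Category.comp_id]
    rw [e]
    infer_instance
  exact (AddCommGrpCat.mono_iff_injective _).1 this

lemma cechHMap_bijective {P Q : Cᵒᵖ ⥤ AddCommGrpCat.{u}} (φ : P ⟶ Q) (p : ℕ)
    (h : ∀ (n : ℕ) (a : Fin (n + 1) → ι), Function.Bijective (φ.app (op (∏ᶜ fun k => Y (a k)).left))) :
    Function.Bijective (CechEdge.cechHMap Y φ p) := by
  haveI : ∀ n, IsIso (((CechEdge.cxFunctor Y).map φ).f n) := fun n =>
    (ConcreteCategory.isIso_iff_bijective _).2
      ⟨cxf_ext φ n fun a => (h n a).1, cxf_surj φ n fun a => (h n a).2⟩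
  haveI : IsIso ((CechEdge.cxFunctor Y).map φ) := HomologicalComplex.Hom.isIso_of_components _
  exact ConcreteCategory.bijective_of_isIso (HomologicalComplex.homologyMap ((CechEdge.cxFunctor Y).map φ) p)

variable {Y}

section Step

variable {S : ShortComplex (Sheaf J AddCommGrpCat.{u})} (hS : S.ShortExact)

omit [HasPullbacks C] in
lemma zero_hom (S : ShortComplex (Sheaf J AddCommGrpCat.{u})) : S.f.hom ≫ S.g.hom = 0 :=
  congrArg (sheafToPresheaf J AddCommGrpCat.{u}).map S.zero

/-- From the presheaf cokernel to the sheaf cokernel. -/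
noncomputable abbrev cokMap (S : ShortComplex (Sheaf J AddCommGrpCat.{u})) : cokernel S.f.hom ⟶ S.X₃.obj :=
  cokernel.desc S.f.hom S.g.hom (zero_hom S)

include hS

omit [HasPullbacks C] in
lemma mono_hom : Mono S.f.hom :=
  haveI := hS.mono_f
  (sheafToPresheaf J AddCommGrpCat.{u}).map_mono S.f

omit [HasPullbacks C] in
lemma mono_cokMap : Mono (cokMap S) := by
  have h : (ShortComplex.mk S.f.hom S.g.hom (zero_hom S)).Exact :=
    ShortComplex.exact_of_f_is_kernel _ (KernelFork.mapIsLimit _ (haveI := hS.mono_f; hS.fIsKernel)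
      (sheafToPresheaf J AddCommGrpCat.{u}))
  exact (ShortComplex.exact_iff_mono_cokernel_desc _).1 h

omit [HasPullbacks C] in
lemma cokMap_bijective (V : C) (h : Subsingleton (CohSite.HU S.X₁ 1 V)) :
    Function.Bijective ((cokMap S).app (op V)) := by
  haveI := mono_cokMap hS
  refine ⟨(AddCommGrpCat.mono_iff_injective _).1 inferInstance, fun y => ?_⟩
  obtain ⟨x, rfl⟩ := SiteCoh.surjective_sections V hS h y
  exact ⟨(cokernel.π S.f.hom).app (op V) x,
    ConcreteCategory.congr_hom (NatTrans.congr_app (cokernel.π_desc S.f.hom S.g.hom (zero_hom S)) (op V)) x⟩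

omit hS in
lemma cechHMap_cokMap (p : ℕ) (z : CohCx.cechH S.X₂.obj Y p) :
    CechEdge.cechHMap Y (cokMap S) p (CechEdge.cechHMap Y (cokernel.π S.f.hom) p z) =
      CechEdge.cechHMap Y S.g.hom p z := by
  have h : HomologicalComplex.homologyMap ((CechEdge.cxFunctor Y).map (cokernel.π S.f.hom)) p ≫
      HomologicalComplex.homologyMap ((CechEdge.cxFunctor Y).map (cokMap S)) p =
      HomologicalComplex.homologyMap ((CechEdge.cxFunctor Y).map S.g.hom) p := by
    rw [← HomologicalComplex.homologyMap_comp, ← Functor.map_comp, cokernel.π_desc]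
  exact ConcreteCategory.congr_hom h z

theorem edgeSh_delta (he : CechEdge.IsEdge J Y e) (p : ℕ) (k : CohCx.cechH (cokernel S.f.hom) Y p) :
    haveI := mono_hom hS
    CechEdge.edgeSh e S.X₁ (p + 1)
        ((cechT Y).δ _ (DeltaFun.ses_shortExact S.f.hom) p (p + 1) rfl k) =
      CechEdge.extδ hS U p (CechEdge.edgeSh e S.X₃ p (CechEdge.cechHMap Y (cokMap S) p k)) := by
  haveI := mono_hom hS
  let P₀ := DeltaFun.ses S.f.hom
  have hP₀ : P₀.ShortExact := DeltaFun.ses_shortExact S.f.hom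
  let φ : P₀.map (presheafToSheaf J AddCommGrpCat.{u}) ⟶ S :=
    { τ₁ := (sheafificationAdjunction J AddCommGrpCat.{u}).counit.app S.X₁
      τ₂ := (sheafificationAdjunction J AddCommGrpCat.{u}).counit.app S.X₂
      τ₃ := CechEdge.shfMap J (cokMap S) ≫ (sheafificationAdjunction J AddCommGrpCat.{u}).counit.app S.X₃
      comm₁₂ := ((sheafificationAdjunction J AddCommGrpCat.{u}).counit.naturality S.f).symm
      comm₂₃ := by
        refine ((sheafificationAdjunction J AddCommGrpCat.{u}).counit.naturality S.g).symm.trans ?_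
        refine Eq.trans ?_ (Category.assoc _ _ _)
        refine congrArg (· ≫ _) ?_
        exact (congrArg (presheafToSheaf J AddCommGrpCat.{u}).map
          (cokernel.π_desc S.f.hom S.g.hom (zero_hom S)).symm).trans (Functor.map_comp _ _ _) }
  show CechEdge.HUmap φ.τ₁ (p + 1) U (e P₀.X₁ (p + 1) _) =
    CechEdge.extδ hS U p (CechEdge.HUmap _ p U (e S.X₃.obj p (CechEdge.cechHMap Y (cokMap S) p k)))
  refine (congrArg (CechEdge.HUmap φ.τ₁ (p + 1) U) (he.delta P₀ hP₀ (shortExact_cx Y hP₀) p k)).trans ?_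
  refine Eq.trans ?_ (congrArg (CechEdge.extδ hS U p)
    ((congrArg (CechEdge.HUmap _ p U) (he.natural _ _ (cokMap S) p k)).trans
      (HUmap_comp_apply J _ _ p U (e P₀.X₃ p k))).symm)
  show Ext.comp (Ext.comp (e P₀.X₃ p k) _ rfl) (Ext.mk₀ φ.τ₁) (add_zero (p + 1)) =
    Ext.comp (Ext.comp (e P₀.X₃ p k) (Ext.mk₀ φ.τ₃) (add_zero p)) hS.extClass rfl
  rw [Ext.comp_assoc_of_third_deg_zero, Ext.comp_assoc_of_second_deg_zero]
  exact congrArg (fun t => Ext.comp (e P₀.X₃ p k) t rfl)
    (ShortComplex.ShortExact.extClass_naturality (hP₀.map_of_exact (presheafToSheaf J AddCommGrpCat.{u})) hS φ)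

variable [Injective S.X₂] (he : CechEdge.IsEdge J Y e)
include he

omit he in
lemma delta_surjective (p : ℕ) :
    haveI := mono_hom hS
    Function.Surjective ((cechT Y).δ _ (DeltaFun.ses_shortExact S.f.hom) p (p + 1) rfl) := by
  haveI := mono_hom hS
  exact (AddCommGrpCat.epi_iff_surjective _).1
    (((cechT Y).exact₁ _ (DeltaFun.ses_shortExact S.f.hom) p (p + 1) rfl).epi_f
      ((isZero_cechH_injective Y S.X₂ p).eq_of_tgt _ _))

theorem step_injective (p : ℕ) (hκ : Function.Injective (CechEdge.cechHMap Y (cokMap S) p))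
    (hQ : Function.Injective (CechEdge.edgeSh e S.X₃ p)) (hI : Function.Surjective (CechEdge.edgeSh e S.X₂ p)) :
    Function.Injective (CechEdge.edgeSh e S.X₁ (p + 1)) := by
  haveI := mono_hom hS
  rw [injective_iff_map_eq_zero]
  intro x hx
  obtain ⟨k, rfl⟩ := delta_surjective (Y := Y) hS p x
  rw [edgeSh_delta hS he] at hx
  obtain ⟨y, hy⟩ := Ext.covariant_sequence_exact₃ (CohCx.freeSheaf J U) hS
    (CechEdge.edgeSh e S.X₃ p (CechEdge.cechHMap Y (cokMap S) p k)) rfl hx
  obtain ⟨z, rfl⟩ := hI y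
  have h : CechEdge.cechHMap Y (cokMap S) p k =
      CechEdge.cechHMap Y (cokMap S) p (CechEdge.cechHMap Y (cokernel.π S.f.hom) p z) :=
    hQ (hy.symm.trans (((congrArg _ (cechHMap_cokMap p z)).trans (edgeSh_natural he S.g p z)).symm))
  rw [hκ h]
  exact ConcreteCategory.congr_hom ((cechT Y).comp_δ _ (DeltaFun.ses_shortExact S.f.hom) p (p + 1) rfl) z

theorem step_surjective (p : ℕ) (hκ : Function.Surjective (CechEdge.cechHMap Y (cokMap S) p))
    (hQ : Function.Surjective (CechEdge.edgeSh e S.X₃ p)) :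
    Function.Surjective (CechEdge.edgeSh e S.X₁ (p + 1)) := fun y => by
  haveI := mono_hom hS
  obtain ⟨q, hq⟩ := Ext.covariant_sequence_exact₁ (CohCx.freeSheaf J U) hS y (Ext.eq_zero_of_injective _) rfl
  obtain ⟨q', rfl⟩ := hQ q
  obtain ⟨k, rfl⟩ := hκ q'
  exact ⟨_, (edgeSh_delta hS he p k).trans hq⟩

end Step

theorem edgeSh_bijective (he : CechEdge.IsEdge J Y e) : ∀ (p : ℕ) (F : Sheaf J AddCommGrpCat.{u}),
    (∀ (p : ℕ) (a : Fin (p + 1) → ι) (q : ℕ), Subsingleton (CohSite.HU F (q + 1) (∏ᶜ fun k => Y (a k)).left)) →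
      Function.Bijective (CechEdge.edgeSh e F p)
  | 0, F, _ => edgeSh_zero_bijective he F
  | p + 1, F, h => by
    obtain ⟨I, Q, i, π, w, hI, hS⟩ := SiteCoh.exists_injSeq F
    have hκ := cechHMap_bijective Y (cokMap (ShortComplex.mk i π w)) p fun n a => cokMap_bijective hS _ (h n a 0)
    have hQ := edgeSh_bijective he p Q fun n a q => SiteCoh.subsingleton_HU₃ _ hS (q + 1)
      (SiteCoh.subsingleton_HU_of_injective _ I q) (h n a (q + 1))
    have hI' := edgeSh_bijective he p I fun n a q => SiteCoh.subsingleton_HU_of_injective _ I q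
    exact ⟨step_injective (S := ShortComplex.mk i π w) hS he p hκ.1 hQ.1 hI'.2,
      step_surjective (S := ShortComplex.mk i π w) hS he p hκ.2 hQ.2⟩

theorem edgeSh_one_injective (he : CechEdge.IsEdge J Y e) (F : Sheaf J AddCommGrpCat.{u}) :
    Function.Injective (CechEdge.edgeSh e F 1) := by
  obtain ⟨I, Q, i, π, w, hI, hS⟩ := SiteCoh.exists_injSeq F
  haveI := mono_cokMap hS
  exact step_injective (S := ShortComplex.mk i π w) hS he 0 (cechHMap_zero_injective Y _)
    (edgeSh_zero_bijective he Q).1 (edgeSh_zero_bijective he I).2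

end Groth.Agent.CechEdge8
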