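import Groth.Prelude.Def_CechEdge
import Groth.Prelude.Def_DeltaF
import Groth.Agent.Lib.SiteCoh.CechExt
import Groth.Agent.Lib.DeltaFun.Basic
import Mathlib.Algebra.Category.Grp.AB

/-! Čech cohomology and cohomology of the associated sheaf as δ-functors on presheaves. -/

set_option autoImplicit false

universe u

open CategoryTheory CategoryTheory.Limits Opposite Abelian DeltaF

set_option backward.isDefEq.respectTransparency false
set_option backward.isDefEq.respectTransparency.types false

namespace Groth.Agent.CechEdge8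

variable {C : Type u} [SmallCategory C] [HasPullbacks C] {U : C} {ι : Type u} (Y : ι → Over U)

/-- The functor of Čech cochains of a fixed degree, as a product of values. -/
noncomputable abbrev cochFunctor (n : ℕ) : (Cᵒᵖ ⥤ AddCommGrpCat.{u}) ⥤ AddCommGrpCat.{u} :=
  (Functor.whiskeringLeft (Discrete (Fin (n + 1) → ι)) Cᵒᵖ AddCommGrpCat.{u}).obj
    (Discrete.functor fun a : Fin (n + 1) → ι => op (∏ᶜ (Y ∘ a)).left) ⋙ lim

theorem shortExact_cx {S : ShortComplex (Cᵒᵖ ⥤ AddCommGrpCat.{u})} (hS : S.ShortExact) :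
    (S.map (CechEdge.cxFunctor Y)).ShortExact := by
  refine HomologicalComplex.shortExact_of_degreewise_shortExact _ fun n => ?_
  let e : CechEdge.cxFunctor Y ⋙ HomologicalComplex.eval AddCommGrpCat.{u} (ComplexShape.up ℕ) n ≅
      cochFunctor Y n :=
    NatIso.ofComponents (fun P => HasLimit.isoOfNatIso (Discrete.natIso fun a => Iso.refl _)) (fun {P Q} f => by
      apply limit.hom_ext
      intro j
      obtain ⟨a⟩ := j
      simp [cechComplexFunctor, FormalCoproduct.cochainComplexFunctor]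
      rfl)
  haveI : (cochFunctor Y n).PreservesZeroMorphisms := ⟨fun _ _ => by
    apply limit.hom_ext
    intro j
    simp⟩
  haveI : PreservesFiniteLimits (cochFunctor Y n) := comp_preservesFiniteLimits _ _
  haveI : PreservesFiniteColimits (cochFunctor Y n) := comp_preservesFiniteColimits _ _
  exact ShortComplex.shortExact_of_iso (S.mapNatIso e).symm (hS.map_of_exact (cochFunctor Y n))

/-- Čech cohomology as a δ-functor on presheaves. -/
noncomputable def cechT : CohDeltaFunctor (Cᵒᵖ ⥤ AddCommGrpCat.{u}) AddCommGrpCat.{u} ℕ where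
  F n := CechEdge.cxFunctor Y ⋙ HomologicalComplex.homologyFunctor _ _ n
  additive n := by
    haveI : (CechEdge.cxFunctor Y).Additive := ⟨fun {P Q} {f g} => by
      apply HomologicalComplex.hom_ext
      intro m
      refine Pi.hom_ext _ _ fun a => ?_
      simp [cechComplexFunctor, FormalCoproduct.cochainComplexFunctor]⟩
    infer_instance
  δ S hS n₀ n₁ h := (shortExact_cx Y hS).δ n₀ n₁ h
  δ_natural {S S'} hS hS' φ n₀ n₁ h :=
    (HomologicalComplex.HomologySequence.δ_naturality ((CechEdge.cxFunctor Y).mapShortComplex.map φ)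
      (shortExact_cx Y hS) (shortExact_cx Y hS') n₀ n₁ h).symm
  exact₂ S hS n := (shortExact_cx Y hS).homology_exact₂ n
  comp_δ S hS n₀ n₁ h := (shortExact_cx Y hS).comp_δ n₀ n₁ h
  exact₃ S hS n₀ n₁ h := (shortExact_cx Y hS).homology_exact₃ n₀ n₁ h
  δ_comp S hS n₀ n₁ h := (shortExact_cx Y hS).δ_comp n₀ n₁ h
  exact₁ S hS n₀ n₁ h := (shortExact_cx Y hS).homology_exact₁ n₀ n₁ h

theorem isZero_cechH_injective {J : GrothendieckTopology C} (I : Sheaf J AddCommGrpCat.{u}) [Injective I] (q : ℕ) :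
    IsZero (CohCx.cechH I.obj Y (q + 1)) :=
  (SiteCoh.isZero_cechH_iff Y I q).2 (SiteCoh.homExactAt_fam_injective Y I q)

theorem cechT_isEffaceable : (cechT Y).IsEffaceable := fun n P => by
  let F : Sheaf (⊥ : GrothendieckTopology C) AddCommGrpCat.{u} := ⟨P, Presheaf.isSheaf_bot _⟩
  refine ⟨(Injective.under F).obj, (Injective.ι F).hom, ?_, ?_⟩
  · exact (sheafToPresheaf (⊥ : GrothendieckTopology C) AddCommGrpCat.{u}).map_mono (Injective.ι F)
  · exact (isZero_cechH_injective Y (Injective.under F) n).eq_of_tgt _ _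

variable (J : GrothendieckTopology C) (U)

omit Y

/-- Cohomology of the associated sheaf as a δ-functor on presheaves. -/
noncomputable def sheafT : CohDeltaFunctor (Cᵒᵖ ⥤ AddCommGrpCat.{u}) AddCommGrpCat.{u} ℕ where
  F n := presheafToSheaf J AddCommGrpCat.{u} ⋙ Sheaf.cohomologyPresheafFunctor J n ⋙ (evaluation _ _).obj (op U)
  additive n := ⟨fun {P Q} {f g} => by
    ext x
    show Ext.comp x (Ext.mk₀ ((presheafToSheaf J AddCommGrpCat.{u}).map (f + g))) (add_zero n) =
      Ext.comp x (Ext.mk₀ ((presheafToSheaf J AddCommGrpCat.{u}).map f)) (add_zero n) +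
      Ext.comp x (Ext.mk₀ ((presheafToSheaf J AddCommGrpCat.{u}).map g)) (add_zero n)
    rw [Functor.map_add, Ext.mk₀_add, Ext.comp_add]⟩
  δ S hS n₀ n₁ h := AddCommGrpCat.ofHom
    ((hS.map_of_exact (presheafToSheaf J AddCommGrpCat.{u})).extClass.postcomp (CohCx.freeSheaf J U) h)
  δ_natural {S S'} hS hS' φ n₀ n₁ h := by
    ext x
    show Ext.comp (Ext.comp x (Ext.mk₀ ((presheafToSheaf J AddCommGrpCat.{u}).map φ.τ₃)) (add_zero n₀)) _ h =
      Ext.comp (Ext.comp x _ h) (Ext.mk₀ ((presheafToSheaf J AddCommGrpCat.{u}).map φ.τ₁)) (add_zero n₁)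
    rw [Ext.comp_assoc_of_second_deg_zero, Ext.comp_assoc_of_third_deg_zero]
    exact congrArg (fun e => Ext.comp x e h)
      (ShortComplex.ShortExact.extClass_naturality (hS.map_of_exact (presheafToSheaf J AddCommGrpCat.{u}))
        (hS'.map_of_exact (presheafToSheaf J AddCommGrpCat.{u}))
        ((presheafToSheaf J AddCommGrpCat.{u}).mapShortComplex.map φ)).symm
  exact₂ S hS n :=
    Ext.covariant_sequence_exact₂' _ (hS.map_of_exact (presheafToSheaf J AddCommGrpCat.{u})) n
  comp_δ S hS n₀ n₁ h := by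
    ext x
    show Ext.comp (Ext.comp x (Ext.mk₀ ((presheafToSheaf J AddCommGrpCat.{u}).map S.g)) (add_zero n₀))
      (hS.map_of_exact (presheafToSheaf J AddCommGrpCat.{u})).extClass h = 0
    rw [Ext.comp_assoc_of_second_deg_zero]
    erw [(hS.map_of_exact (presheafToSheaf J AddCommGrpCat.{u})).comp_extClass]
    exact Ext.comp_zero x _ _ _ h
  exact₃ S hS n₀ n₁ h :=
    Ext.covariant_sequence_exact₃' _ (hS.map_of_exact (presheafToSheaf J AddCommGrpCat.{u})) n₀ n₁ h
  δ_comp S hS n₀ n₁ h := by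
    ext x
    show Ext.comp (Ext.comp x (hS.map_of_exact (presheafToSheaf J AddCommGrpCat.{u})).extClass h)
      (Ext.mk₀ ((presheafToSheaf J AddCommGrpCat.{u}).map S.f)) (add_zero n₁) = 0
    rw [Ext.comp_assoc_of_third_deg_zero]
    erw [(hS.map_of_exact (presheafToSheaf J AddCommGrpCat.{u})).extClass_comp]
    exact Ext.comp_zero x _ _ _ h
  exact₁ S hS n₀ n₁ h :=
    Ext.covariant_sequence_exact₁' _ (hS.map_of_exact (presheafToSheaf J AddCommGrpCat.{u})) n₀ n₁ h

end Groth.Agent.CechEdge8
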