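import Groth.Agent.Lib.CechEdge8.Sheaf
import Groth.Agent.Lib.CechEdge8.Delta

/-! Existence and uniqueness of the comparison maps from Čech cohomology to sheaf cohomology. -/

set_option autoImplicit false

universe u

open CategoryTheory CategoryTheory.Limits Opposite Abelian DeltaF

set_option backward.isDefEq.respectTransparency false
set_option backward.isDefEq.respectTransparency.types false

namespace Groth.Agent.CechEdge8

variable {C : Type u} [SmallCategory C] [HasPullbacks C] (J : GrothendieckTopology C) {U : C} {ι : Type u}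
  (Y : ι → Over U)

omit [HasPullbacks C] in
lemma HUmap_apply {F G : Sheaf J AddCommGrpCat.{u}} (ψ : F ⟶ G) (p : ℕ) (V : C) (x : CohSite.HU F p V) :
    CechEdge.HUmap ψ p V x = Ext.comp x (Ext.mk₀ ψ) (add_zero p) := rfl

omit [HasPullbacks C] in
lemma HUmap_comp_apply {F G H : Sheaf J AddCommGrpCat.{u}} (ψ : F ⟶ G) (χ : G ⟶ H) (p : ℕ) (V : C)
    (x : CohSite.HU F p V) : CechEdge.HUmap χ p V (CechEdge.HUmap ψ p V x) = CechEdge.HUmap (ψ ≫ χ) p V x := by
  erw [HUmap_apply, HUmap_apply, HUmap_apply, Ext.comp_assoc_of_second_deg_zero, Ext.mk₀_comp_mk₀]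

omit [HasPullbacks C] in
lemma HUmap_bijective {F G : Sheaf J AddCommGrpCat.{u}} (ψ : F ⟶ G) [IsIso ψ] (p : ℕ) (V : C) :
    Function.Bijective (CechEdge.HUmap ψ p V) :=
  ConcreteCategory.bijective_of_isIso (((Sheaf.cohomologyPresheafFunctor J p).map ψ).app (op V))

omit [HasPullbacks C] in
lemma sectH0_natural {F G : Sheaf J AddCommGrpCat.{u}} (ψ : F ⟶ G) (V : C) (s : F.obj.obj (op V)) :
    CechEdge.HUmap ψ 0 V (CechEdge.sectH0 J V F s) = CechEdge.sectH0 J V G (ψ.hom.app (op V) s) := by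
  apply (CechEdge.sectH0 J V G).symm.injective
  rw [AddEquiv.symm_apply_apply, HUmap_apply]
  obtain ⟨f, rfl⟩ : ∃ f, s = CohFree.homEquivSect J V F f := ⟨_, ((CohFree.homEquivSect J V F).apply_symm_apply s).symm⟩
  have h0 : ∀ {H : Sheaf J AddCommGrpCat.{u}} (g : CohCx.freeSheaf J V ⟶ H), Ext.homEquiv₀ (Ext.mk₀ g) = g :=
    fun g => by rw [← Ext.homEquiv₀_symm_apply, Equiv.apply_symm_apply]
  have e : CechEdge.sectH0 J V F (CohFree.homEquivSect J V F f) = Ext.mk₀ f :=
    (CechEdge.sectH0 J V F).eq_symm_apply.1 (by simp [CechEdge.sectH0, Ext.addEquiv₀]; exact (h0 f).symm)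
  rw [e, Ext.mk₀_comp_mk₀]
  simp [CechEdge.sectH0, Ext.addEquiv₀]
  exact congrArg (CohFree.homEquivSect J V G) (h0 (f ≫ ψ))

lemma cechHMap_toCech {P Q : Cᵒᵖ ⥤ AddCommGrpCat.{u}} (φ : P ⟶ Q) (s : P.obj (op U)) :
    CechEdge.cechHMap Y φ 0 (CechEdge.toCech Y P s) = CechEdge.toCech Y Q (φ.app (op U) s) := by
  have h : (CechEdge.toCycles P Y ≫ (CechEdge.cx P Y).homologyπ 0) ≫
      HomologicalComplex.homologyMap ((CechEdge.cxFunctor Y).map φ) 0 =
      φ.app (op U) ≫ CechEdge.toCycles Q Y ≫ (CechEdge.cx Q Y).homologyπ 0 := by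
    rw [Category.assoc]
    erw [HomologicalComplex.homologyπ_naturality]
    rw [← Category.assoc, ← Category.assoc]
    congr 1
    rw [← cancel_mono ((CechEdge.cx Q Y).iCycles 0), Category.assoc, Category.assoc, CechEdge.toCycles_i]
    erw [HomologicalComplex.cyclesMap_i]
    rw [← Category.assoc, CechEdge.toCycles_i]
    refine Pi.hom_ext _ _ fun a => ?_
    simp [CechEdge.toCech₀, cechComplexFunctor, FormalCoproduct.cochainComplexFunctor]
  exact ConcreteCategory.congr_hom h s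

variable (hY : Sieve.ofArrows (fun i => (Y i).left) (fun i => (Y i).hom) ∈ J U)

/-- Sections of a sheaf as degree-zero Čech cohomology of a covering. -/
noncomputable def cechEquiv (F : Sheaf J AddCommGrpCat.{u}) : F.obj.obj (op U) ≃+ CohCx.cechH F.obj Y 0 :=
  AddEquiv.ofBijective (CechEdge.toCech Y F.obj) (toCech_bijective_of_isSheaf F.obj Y J F.property hY)

/-- The degree-zero comparison map. -/
noncomputable def edgeZero (P : Cᵒᵖ ⥤ AddCommGrpCat.{u}) :
    CohCx.cechH P Y 0 →+ CohSite.HU (CechEdge.shf J P) 0 U :=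
  ((CechEdge.sectH0 J U (CechEdge.shf J P)).toAddMonoidHom.comp
      (cechEquiv J Y hY (CechEdge.shf J P)).symm.toAddMonoidHom).comp
    (CechEdge.cechHMap Y (toSheafify J P) 0)

lemma edgeZero_toCech (P : Cᵒᵖ ⥤ AddCommGrpCat.{u}) (s : P.obj (op U)) :
    edgeZero J Y hY P (CechEdge.toCech Y P s) =
      CechEdge.sectH0 J U (CechEdge.shf J P) ((toSheafify J P).app (op U) s) := by
  show CechEdge.sectH0 J U _ ((cechEquiv J Y hY (CechEdge.shf J P)).symm _) = _
  rw [cechHMap_toCech]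
  exact congrArg _ ((cechEquiv J Y hY (CechEdge.shf J P)).symm_apply_apply _)

lemma edgeZero_natural {P Q : Cᵒᵖ ⥤ AddCommGrpCat.{u}} (φ : P ⟶ Q) (x : CohCx.cechH P Y 0) :
    edgeZero J Y hY Q (CechEdge.cechHMap Y φ 0 x) =
      CechEdge.HUmap (CechEdge.shfMap J φ) 0 U (edgeZero J Y hY P x) := by
  show CechEdge.sectH0 J U _ ((cechEquiv J Y hY _).symm
      (CechEdge.cechHMap Y (toSheafify J Q) 0 (CechEdge.cechHMap Y φ 0 x))) =
    CechEdge.HUmap _ 0 U (CechEdge.sectH0 J U _ ((cechEquiv J Y hY _).symm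
      (CechEdge.cechHMap Y (toSheafify J P) 0 x)))
  rw [sectH0_natural]
  refine congrArg _ ?_
  rw [AddEquiv.symm_apply_eq]
  obtain ⟨y, hy⟩ : ∃ y, cechEquiv J Y hY (CechEdge.shf J P) y = CechEdge.cechHMap Y (toSheafify J P) 0 x :=
    ⟨_, (cechEquiv J Y hY (CechEdge.shf J P)).apply_symm_apply _⟩
  rw [← hy, AddEquiv.symm_apply_apply]
  refine Eq.trans ?_ (cechHMap_toCech Y (CechEdge.shfMap J φ).hom y)
  have e : φ ≫ toSheafify J Q = toSheafify J P ≫ (CechEdge.shfMap J φ).hom := toSheafify_naturality J φ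
  have h := congrArg (fun ψ => CechEdge.cechHMap Y ψ 0 x) e
  simp only [CechEdge.cechHMap, Functor.map_comp, HomologicalComplex.homologyMap_comp,
    AddCommGrpCat.hom_comp, AddMonoidHom.comp_apply] at h
  exact h.trans (congrArg (CechEdge.cechHMap Y (CechEdge.shfMap J φ).hom 0) hy.symm)

/-- The degree-zero comparison as a natural transformation. -/
noncomputable def edgeZeroNat : (cechT Y).F 0 ⟶ (sheafT U J).F 0 where
  app P := AddCommGrpCat.ofHom (edgeZero J Y hY P)
  naturality _ _ φ := AddCommGrpCat.hom_ext (AddMonoidHom.ext (edgeZero_natural J Y hY φ))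

omit hY in
/-- A morphism of δ-functors with the degree-zero comparison gives an edge family. -/
theorem isEdge_of_hom (hY : Sieve.ofArrows (fun i => (Y i).left) (fun i => (Y i).hom) ∈ J U)
    (τ : cechT Y ⟶ sheafT U J) (h : τ.app 0 = edgeZeroNat J Y hY) :
    CechEdge.IsEdge J Y fun P p => ((τ.app p).app P).hom where
  cover := hY
  zero P s := by
    rw [h]
    exact edgeZero_toCech J Y hY P s
  natural P Q φ p x := ConcreteCategory.congr_hom ((τ.app p).naturality φ) x
  delta S hS hC p x := ConcreteCategory.congr_hom (τ.comm S hS p (p + 1) rfl) x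

include hY in
theorem exists_isEdge : ∃ e, CechEdge.IsEdge J Y e := by
  obtain ⟨τ, hτ, -⟩ := DeltaFun.isUniversal_of_isEffaceable (cechT_isEffaceable Y) (sheafT U J)
    (edgeZeroNat J Y hY)
  exact ⟨_, isEdge_of_hom J Y hY τ hτ⟩

omit hY

variable {J Y} {e : ∀ (P : Cᵒᵖ ⥤ AddCommGrpCat.{u}) (p : ℕ), CohCx.cechH P Y p →+ CohSite.HU (CechEdge.shf J P) p U}

/-- An edge family as a morphism of δ-functors. -/
noncomputable def toHom (he : CechEdge.IsEdge J Y e) : cechT Y ⟶ sheafT U J where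
  app p :=
    { app := fun P => AddCommGrpCat.ofHom (e P p)
      naturality := fun P Q φ => AddCommGrpCat.hom_ext (AddMonoidHom.ext (he.natural P Q φ p)) }
  comm S hS n₀ n₁ h := by
    subst h
    exact AddCommGrpCat.hom_ext (AddMonoidHom.ext (he.delta S hS (shortExact_cx Y hS) n₀))

theorem eq_edgeZero (he : CechEdge.IsEdge J Y e) (P : Cᵒᵖ ⥤ AddCommGrpCat.{u}) (x : CohCx.cechH P Y 0) :
    e P 0 x = edgeZero J Y he.cover P x := by
  haveI : IsIso (CechEdge.shfMap J (toSheafify J P)) :=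
    (GrothendieckTopology.W_iff J _).1 (GrothendieckTopology.W_toSheafify J P)
  apply (HUmap_bijective J (CechEdge.shfMap J (toSheafify J P)) 0 U).1
  rw [← he.natural, ← edgeZero_natural]
  obtain ⟨y, hy⟩ := (toCech_bijective_of_isSheaf _ Y J (CechEdge.shf J P).property he.cover).2
    (CechEdge.cechHMap Y (toSheafify J P) 0 x)
  refine Eq.trans ?_ (congrArg (edgeZero J Y he.cover _) hy)
  rw [edgeZero_toCech]
  exact (congrArg (e _ 0) hy.symm).trans (he.zero _ y)

theorem isEdge_unique {e' : ∀ (P : Cᵒᵖ ⥤ AddCommGrpCat.{u}) (p : ℕ), CohCx.cechH P Y p →+ CohSite.HU (CechEdge.shf J P) p U}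
    (he : CechEdge.IsEdge J Y e) (he' : CechEdge.IsEdge J Y e') : e = e' := by
  obtain ⟨τ, -, huniq⟩ := DeltaFun.isUniversal_of_isEffaceable (cechT_isEffaceable Y) (sheafT U J)
    (edgeZeroNat J Y he.cover)
  have key : toHom he = toHom he' := (huniq (toHom he) (by
      ext P x; exact eq_edgeZero he P x)).trans (huniq (toHom he') (by
      ext P x; exact eq_edgeZero he' P x)).symm
  funext P p
  exact congrArg AddCommGrpCat.Hom.hom (NatTrans.congr_app (congrArg (fun τ => τ.app p) key) P)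

end Groth.Agent.CechEdge8
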