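import Groth.Agent.Lib.CechEdge8.Edge

/-! Comparison maps and refinement of families. -/

set_option autoImplicit false

universe u

open CategoryTheory CategoryTheory.Limits Opposite

set_option backward.isDefEq.respectTransparency false
set_option backward.isDefEq.respectTransparency.types false

namespace Groth.Agent.CechEdge8

variable {C : Type u} [SmallCategory C] [HasPullbacks C] {J : GrothendieckTopology C} {U : C} {ι κ : Type u}
  {Y : ι → Over U} {Y' : κ → Over U} (f : FormalCoproduct.mk ι Y ⟶ FormalCoproduct.mk κ Y')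

/-- Refinement of Čech complexes, natural in the presheaf. -/
noncomputable def refineNat : CechEdge.cxFunctor Y' ⟶ CechEdge.cxFunctor Y :=
  Functor.whiskerLeft _ (Functor.whiskerLeft (FormalCoproduct.evalOp.{u} (Over U) AddCommGrpCat.{u})
    (Functor.whiskerRight ((Functor.whiskeringLeft _ _ _).map (NatTrans.rightOp (FormalCoproduct.cechFunctor.map f)))
      (AlgebraicTopology.alternatingCofaceMapComplex AddCommGrpCat.{u})))

lemma refineNat_app (P : Cᵒᵖ ⥤ AddCommGrpCat.{u}) : (refineNat f).app P = CohCx.cechRefine P f := rfl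

lemma toCech₀_refine (P : Cᵒᵖ ⥤ AddCommGrpCat.{u}) :
    CechEdge.toCech₀ P Y' ≫ (CohCx.cechRefine P f).f 0 = CechEdge.toCech₀ P Y := by
  refine Pi.hom_ext _ _ fun a => ?_
  dsimp [CechEdge.toCech₀, CohCx.cechRefine, AlgebraicTopology.alternatingCofaceMapComplex]
  erw [Category.assoc, Pi.lift_π, Pi.lift_π_assoc, Pi.lift_π]
  erw [← P.map_comp, ← op_comp, Over.w]
  rfl

lemma refine_toCech (P : Cᵒᵖ ⥤ AddCommGrpCat.{u}) (s : P.obj (op U)) :
    (HomologicalComplex.homologyMap (CohCx.cechRefine P f) 0).hom (CechEdge.toCech Y' P s) =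
      CechEdge.toCech Y P s := by
  have h : (CechEdge.toCycles P Y' ≫ (CechEdge.cx P Y').homologyπ 0) ≫
      HomologicalComplex.homologyMap (CohCx.cechRefine P f) 0 =
      CechEdge.toCycles P Y ≫ (CechEdge.cx P Y).homologyπ 0 := by
    rw [Category.assoc]
    erw [HomologicalComplex.homologyπ_naturality]
    rw [← Category.assoc]
    congr 1
    rw [← cancel_mono ((CechEdge.cx P Y).iCycles 0), Category.assoc, CechEdge.toCycles_i]
    erw [HomologicalComplex.cyclesMap_i]
    rw [← Category.assoc, CechEdge.toCycles_i]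
    exact toCech₀_refine f P
  exact ConcreteCategory.congr_hom h s

variable {e : ∀ (P : Cᵒᵖ ⥤ AddCommGrpCat.{u}) (p : ℕ), CohCx.cechH P Y p →+ CohSite.HU (CechEdge.shf J P) p U}
  {e' : ∀ (P : Cᵒᵖ ⥤ AddCommGrpCat.{u}) (p : ℕ), CohCx.cechH P Y' p →+ CohSite.HU (CechEdge.shf J P) p U}

theorem refine_eq (he : CechEdge.IsEdge J Y e) (he' : CechEdge.IsEdge J Y' e')
    (P : Cᵒᵖ ⥤ AddCommGrpCat.{u}) (p : ℕ) (x : CohCx.cechH P Y' p) :
    e P p ((HomologicalComplex.homologyMap (CohCx.cechRefine P f) p).hom x) = e' P p x := by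
  have h : CechEdge.IsEdge J Y'
      (fun P p => (e P p).comp (HomologicalComplex.homologyMap (CohCx.cechRefine P f) p).hom) := by
    refine ⟨he'.cover, fun P s => ?_, fun P Q φ p x => ?_, fun S hS hC p x => ?_⟩
    · exact (congrArg (e P 0) (refine_toCech f P s)).trans (he.zero P s)
    · show e Q p _ = CechEdge.HUmap _ p U (e P p _)
      rw [← he.natural]
      refine congrArg (e Q p) ?_
      have hn := congrArg (fun t => HomologicalComplex.homologyMap t p) ((refineNat f).naturality φ)
      simp only [HomologicalComplex.homologyMap_comp] at hn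
      exact ConcreteCategory.congr_hom hn x
    · show e S.X₁ (p + 1) _ = CechEdge.extδ (hS.map_of_exact (presheafToSheaf J AddCommGrpCat.{u})) U p (e S.X₃ p _)
      rw [← he.delta S hS (shortExact_cx Y hS)]
      refine congrArg (e S.X₁ (p + 1)) ?_
      exact ConcreteCategory.congr_hom (HomologicalComplex.HomologySequence.δ_naturality
        (S.mapNatTrans (refineNat f)) hC (shortExact_cx Y hS) p (p + 1) rfl) x
  exact DFunLike.congr_fun (congrFun (congrFun (isEdge_unique h he') P) p) x

end Groth.Agent.CechEdge8
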