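import Groth.Prelude.Def_CechEdge
import Groth.Agent.Lib.SiteCoh.CechExt
import Mathlib.CategoryTheory.Sites.Sheaf
import Mathlib.Algebra.Homology.ConcreteCategory

/-! The sheaf condition in terms of degree-zero Čech cohomology. -/

set_option autoImplicit false

universe u

open CategoryTheory CategoryTheory.Limits Opposite

set_option backward.isDefEq.respectTransparency false
set_option backward.isDefEq.respectTransparency.types false

namespace Groth.Agent.CechEdge8

variable {C : Type u} [SmallCategory C] [HasPullbacks C] (P : Cᵒᵖ ⥤ AddCommGrpCat.{u}) {U : C} {ι : Type u}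
  (Y : ι → Over U)

/-- A member of a family as the one-fold product. -/
noncomputable abbrev single (i : ι) : Y i ⟶ ∏ᶜ (Y ∘ fun _ : Fin 1 => i) := Pi.lift fun _ => 𝟙 (Y i)

lemma π_single (i : ι) (k : Fin 1) : Pi.π (Y ∘ fun _ : Fin 1 => i) k ≫ single Y i = 𝟙 _ := by
  apply Pi.hom_ext
  intro l
  obtain rfl := Subsingleton.elim l k
  erw [Category.assoc, Pi.lift_π, Category.comp_id, Category.id_comp]

/-- The component of a Čech 0-cochain at a member. -/
noncomputable def val (x : (CechEdge.cx P Y).X 0) (i : ι) : P.obj (op (Y i).left) :=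
  P.map (single Y i).left.op (Pi.π (fun a : Fin 1 → ι => P.obj (op (∏ᶜ (Y ∘ a)).left)) (fun _ => i) x)

lemma π_eq_val (x : (CechEdge.cx P Y).X 0) (a : Fin 1 → ι) :
    Pi.π (fun a : Fin 1 → ι => P.obj (op (∏ᶜ (Y ∘ a)).left)) a x =
      P.map (Pi.π (Y ∘ a) 0).left.op (val P Y x (a 0)) := by
  obtain ⟨i, rfl⟩ : ∃ i, a = fun _ => i := ⟨a 0, funext fun k => congrArg a (Subsingleton.elim k 0)⟩
  rw [val]
  erw [← ConcreteCategory.comp_apply, ← P.map_comp, ← op_comp, ← Over.comp_left, π_single, Over.id_left,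
    op_id, P.map_id]
  rfl

lemma ext_val {x y : (CechEdge.cx P Y).X 0} (h : ∀ i, val P Y x i = val P Y y i) : x = y :=
  SiteCoh.pi_ext fun a => (π_eq_val P Y x a).trans ((congrArg _ (h _)).trans (π_eq_val P Y y a).symm)

omit Y in
lemma map_map {A B D : C} (f : A ⟶ B) (g : B ⟶ D) (z : P.obj (op D)) :
    P.map f.op (P.map g.op z) = P.map (f ≫ g).op z :=
  (Functor.map_comp_apply P g.op f.op z).symm

lemma π_face (j : Fin 2) (x : (CechEdge.cx P Y).X 0) (b : Fin 2 → ι) :
    Pi.π (fun b : Fin 2 → ι => P.obj (op (∏ᶜ (Y ∘ b)).left)) b (CechEdge.face P Y j x) =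
      P.map (Pi.π (Y ∘ b) (Fin.succAbove j 0)).left.op (val P Y x (b (Fin.succAbove j 0))) := by
  have h1 : CechEdge.face P Y j ≫ Pi.π (fun b : Fin 2 → ι => P.obj (op (∏ᶜ (Y ∘ b)).left)) b =
      Pi.π (fun a : Fin 1 → ι => P.obj (op (∏ᶜ (Y ∘ a)).left)) (fun k => b (Fin.succAbove j k)) ≫
        P.map (Pi.lift fun k => Pi.π (Y ∘ b) (Fin.succAbove j k) :
          (∏ᶜ (Y ∘ b)) ⟶ ∏ᶜ (Y ∘ fun k => b (Fin.succAbove j k))).left.op := by
    rw [CechEdge.face, FormalCoproduct.evalOp_obj_map]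
    erw [Pi.lift_π]
    rfl
  refine (ConcreteCategory.congr_hom h1 x).trans ?_
  rw [ConcreteCategory.comp_apply]
  refine (congrArg _ (π_eq_val P Y x _)).trans ?_
  erw [← ConcreteCategory.comp_apply, ← P.map_comp, ← op_comp, ← Over.comp_left, Pi.lift_π]
  rfl

lemma d_eq_zero_iff (x : (CechEdge.cx P Y).X 0) :
    (CechEdge.cx P Y).d 0 1 x = 0 ↔
      Presieve.Arrows.Compatible (P ⋙ forget AddCommGrpCat.{u}) (fun i => (Y i).hom) (val P Y x) := by
  have hd : (CechEdge.cx P Y).d 0 1 x = CechEdge.face P Y 0 x - CechEdge.face P Y 1 x := by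
    rw [CechEdge.cx_d_zero_one]
    simp [Fin.sum_univ_two, sub_eq_add_neg]
  rw [hd, sub_eq_zero]
  constructor
  · intro h i j Z gi gj w
    let b : Fin 2 → ι := Fin.cons i (Fin.cons j Fin.elim0)
    let g : ∀ k, Over.mk (gi ≫ (Y i).hom) ⟶ Y (b k) :=
      Fin.cons (Over.homMk gi rfl) (Fin.cons (Over.homMk gj w.symm) (fun k => k.elim0))
    have h' := congrArg (fun z => P.map (Pi.lift g).left.op
      (Pi.π (fun b : Fin 2 → ι => P.obj (op (∏ᶜ (Y ∘ b)).left)) b z)) h
    simp only [π_face] at h'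
    have e : ∀ k, Over.Hom.left (Pi.lift g) ≫ Over.Hom.left (Pi.π (Y ∘ b) k) = (g k).left := fun k => by
      rw [← Over.comp_left]
      exact congrArg Over.Hom.left (Pi.lift_π _ _)
    have e' : ∀ (k : Fin 2) (z : P.obj (op (Y (b k)).left)),
        P.map (Over.Hom.left (Pi.lift g)).op (P.map (Over.Hom.left (Pi.π (Y ∘ b) k)).op z) =
          P.map (g k).left.op z := fun k z => (map_map P _ _ z).trans (congrArg (fun f => P.map f.op z) (e k))
    exact ((e' 0 (val P Y x (b 0))).symm.trans (h'.symm.trans (e' 1 (val P Y x (b 1)))))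
  · intro h
    refine SiteCoh.pi_ext (G := fun b : Fin 2 → ι => P.obj (op (∏ᶜ (Y ∘ b)).left)) fun b => ?_
    rw [π_face, π_face]
    exact h _ _ _ _ _ ((Over.w (Pi.π (Y ∘ b) _)).trans (Over.w (Pi.π (Y ∘ b) _)).symm)

lemma val_toCech₀ (s : P.obj (op U)) (i : ι) :
    val P Y (CechEdge.toCech₀ P Y s) i = P.map (Y i).hom.op s := by
  rw [val, CechEdge.toCech₀]
  erw [← ConcreteCategory.comp_apply, ← ConcreteCategory.comp_apply, ← Category.assoc, Pi.lift_π, ← P.map_comp,
    ← op_comp, Over.w]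

lemma toCech_eq (s : P.obj (op U)) :
    CechEdge.toCech Y P s = (CechEdge.cx P Y).homologyπ 0 (CechEdge.toCycles P Y s) := rfl

lemma iCycles_toCycles (s : P.obj (op U)) :
    (CechEdge.cx P Y).iCycles 0 (CechEdge.toCycles P Y s) = CechEdge.toCech₀ P Y s :=
  ConcreteCategory.congr_hom (CechEdge.toCycles_i P Y) s

theorem toCech_bijective_iff :
    Function.Bijective (CechEdge.toCech Y P) ↔
      Presieve.IsSheafFor (P ⋙ forget AddCommGrpCat.{u})
        (Presieve.ofArrows (fun i => (Y i).left) fun i => (Y i).hom) := by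
  rw [Presieve.isSheafFor_ofArrows_iff_bijective_toCompabible]
  have hπ : Function.Bijective ((CechEdge.cx P Y).homologyπ 0) :=
    ConcreteCategory.bijective_of_isIso (CechEdge.cx P Y).isoHomologyπ₀.hom
  have hi : Function.Injective ((CechEdge.cx P Y).iCycles 0) :=
    (AddCommGrpCat.mono_iff_injective _).1 inferInstance
  have key : ∀ s s' : P.obj (op U), CechEdge.toCech Y P s = CechEdge.toCech Y P s' ↔
      Presieve.Arrows.toCompatible (P ⋙ forget AddCommGrpCat.{u}) (fun i => (Y i).hom) s =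
        Presieve.Arrows.toCompatible (P ⋙ forget AddCommGrpCat.{u}) (fun i => (Y i).hom) s' := by
    intro s s'
    rw [toCech_eq, toCech_eq, hπ.1.eq_iff, ← hi.eq_iff, iCycles_toCycles, iCycles_toCycles, Subtype.ext_iff]
    refine ⟨fun h => funext fun i => ?_, fun h => ext_val P Y fun i => ?_⟩
    · have := congrArg (fun x => val P Y x i) h
      simp only [val_toCech₀] at this
      exact this
    · rw [val_toCech₀, val_toCech₀]; exact congrFun h i
  constructor
  · intro h
    refine ⟨fun s s' e => h.1 ((key s s').2 e), fun c => ?_⟩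
    obtain ⟨x, hx⟩ := SiteCoh.exists_pi (G := fun a : Fin 1 → ι => P.obj (op (∏ᶜ (Y ∘ a)).left))
      fun a => P.map (Pi.π (Y ∘ a) 0).left.op (c.1 (a 0))
    have hval : ∀ i, val P Y x i = c.1 i := fun i => by
      rw [val, hx]
      erw [← ConcreteCategory.comp_apply, ← P.map_comp, ← op_comp, ← Over.comp_left, Pi.lift_π, Over.id_left,
        op_id, P.map_id]
      rfl
    have hx0 : (CechEdge.cx P Y).d 0 1 x = 0 := by
      rw [d_eq_zero_iff, funext hval]; exact c.2
    obtain ⟨z, hz⟩ : ∃ z, (CechEdge.cx P Y).iCycles 0 z = x := by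
      have e : ((CechEdge.cx P Y).sc 0).g x = 0 := by
        show (CechEdge.cx P Y).d 0 ((ComplexShape.up ℕ).next 0) x = 0
        rw [show (ComplexShape.up ℕ).next 0 = 1 by simp]
        exact hx0
      exact ⟨((CechEdge.cx P Y).sc 0).abCyclesIso.inv ⟨x, e⟩,
        ShortComplex.abCyclesIso_inv_apply_iCycles _ _⟩
    obtain ⟨s, hs⟩ := h.2 ((CechEdge.cx P Y).homologyπ 0 z)
    refine ⟨s, Subtype.ext (funext fun i => ?_)⟩
    rw [toCech_eq, hπ.1.eq_iff, ← hi.eq_iff, iCycles_toCycles] at hs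
    rw [hz] at hs
    exact (val_toCech₀ P Y s i).symm.trans ((congrArg (val P Y · i) hs).trans (hval i))
  · intro h
    refine ⟨fun s s' e => h.1 ((key s s').1 e), fun q => ?_⟩
    obtain ⟨z, rfl⟩ := hπ.2 q
    have hz : (CechEdge.cx P Y).d 0 1 ((CechEdge.cx P Y).iCycles 0 z) = 0 := by
      rw [← ConcreteCategory.comp_apply, HomologicalComplex.iCycles_d]
      rfl
    obtain ⟨s, hs⟩ := h.2 ⟨_, (d_eq_zero_iff P Y _).1 hz⟩
    refine ⟨s, ?_⟩
    rw [toCech_eq, hπ.1.eq_iff, ← hi.eq_iff, iCycles_toCycles]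
    exact ext_val P Y fun i => (val_toCech₀ P Y s i).trans (congrFun (congrArg Subtype.val hs) i)

variable (J : GrothendieckTopology C)

theorem toCech_bijective_of_isSheaf (hP : Presheaf.IsSheaf J P)
    (hY : Sieve.ofArrows (fun i => (Y i).left) (fun i => (Y i).hom) ∈ J U) :
    Function.Bijective (CechEdge.toCech Y P) := by
  rw [toCech_bijective_iff, Presieve.isSheafFor_iff_generate]
  exact (isSheaf_iff_isSheaf_of_type J _).1
    ((Presheaf.isSheaf_iff_isSheaf_forget J P (forget AddCommGrpCat.{u})).1 hP) _ hY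

omit Y in
theorem isSheaf_iff_toCech_bijective :
    Presheaf.IsSheaf J P ↔ ∀ (U : C) (ι : Type u) (Y : ι → Over U),
      Sieve.ofArrows (fun i => (Y i).left) (fun i => (Y i).hom) ∈ J U →
        Function.Bijective (CechEdge.toCech Y P) := by
  refine ⟨fun h U ι Y hY => toCech_bijective_of_isSheaf P Y J h hY, fun h => ?_⟩
  rw [Presheaf.isSheaf_iff_isSheaf_forget J P (forget AddCommGrpCat.{u}), isSheaf_iff_isSheaf_of_type]
  intro V S hS
  let Y : (Σ W : C, {f : W ⟶ V // S f}) → Over V := fun i => Over.mk i.2.1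
  have e : Sieve.ofArrows (fun i => (Y i).left) (fun i => (Y i).hom) = S := by
    refine le_antisymm ?_ fun W f hf => ?_
    · rw [Sieve.generate_le_iff]
      rintro _ _ ⟨i⟩
      exact i.2.2
    · exact Sieve.ofArrows_mk _ (fun i => (Y i).hom) ⟨W, f, hf⟩
  have := (toCech_bijective_iff P Y).1 (h V _ Y (by rw [e]; exact hS))
  rw [Presieve.isSheafFor_iff_generate] at this
  change Presieve.IsSheafFor _ (Sieve.ofArrows (fun i => (Y i).left) (fun i => (Y i).hom)).arrows at this
  rwa [e] at this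

end Groth.Agent.CechEdge8
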